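import Groth.Agent.TMul.Pullback
import Groth.Agent.TMul.AmpleBasis
import Groth.Agent.FlatBCD.Sections
import Groth.Agent.W7FlatBC.Main
import Groth.Agent.QA.Props
import Mathlib.AlgebraicGeometry.Morphisms.FlatDescent
import Groth.Agent.TMul.AffineLocus

/-!
# Descent of ampleness along faithfully flat maps of affine schemes
-/

set_option autoImplicit false
set_option backward.isDefEq.respectTransparency false
set_option backward.isDefEq.respectTransparency.types false
set_option linter.style.haveILetI false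

universe u

open CategoryTheory CategoryTheory.Limits AlgebraicGeometry TopologicalSpace Opposite TensorProduct

noncomputable section

namespace Groth.Agent.AmpleDesc

open Groth.Agent _root_.TMul _root_.InvGen
open Groth.Agent.QC (res resO res_res res_smul resO_resO app_res)

variable {X S X' S' : Scheme.{u}} {f : X ⟶ S} {g : S' ⟶ S} {g' : X' ⟶ X} {f' : X' ⟶ S'}

/-- the pulled back section -/
def eta (g' : X' ⟶ X) (M : X.Modules) (m : Γ(M, ⊤)) : Γ((Scheme.Modules.pullback g').obj M, ⊤) :=
  ((Scheme.Modules.pullbackPushforwardAdjunction g').unit.app M).app ⊤ m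

lemma pushforward_smul (f' : X' ⟶ S') (N : X'.Modules) (c : Γ(S', ⊤))
    (q : Γ((Scheme.Modules.pushforward f').obj N, ⊤)) :
    (HSMul.hSMul (α := Γ(S', ⊤)) c q : Γ((Scheme.Modules.pushforward f').obj N, ⊤)) =
      (HSMul.hSMul (α := Γ(X', ⊤)) (f'.appTop c) (show Γ(N, ⊤) from q) : Γ(N, ⊤)) := rfl

/-- Flat base change: global sections of the inverse image are combinations of pulled back ones. -/
theorem exists_combination (H : IsPullback g' f' f g) [IsAffine S] [IsAffine S'] [QuasiCompact f]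
    [QuasiSeparated f] [Flat g] {M : X.Modules} (hM : Coh.IsQCoh M)
    (z : Γ((Scheme.Modules.pullback g').obj M, ⊤)) :
    ∃ (k : ℕ) (b : Fin k → Γ(S', ⊤)) (m : Fin k → Γ(M, ⊤)),
      z = ∑ i, HSMul.hSMul (α := Γ(X', ⊤)) (f'.appTop (b i)) (eta g' M (m i)) := by
  haveI := W7FlatBC.isIso_baseChangeMap H hM
  let N := (Scheme.Modules.pushforward f).obj M
  have hN : Coh.IsQCoh N := by
    haveI : M.IsQuasicoherent := hM
    exact QC.isQCoh_pushforward f
  let adj := Scheme.Modules.pullbackPushforwardAdjunction g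
  let β : (Scheme.Modules.pullback g).obj N ⟶
      (Scheme.Modules.pushforward f').obj ((Scheme.Modules.pullback g').obj M) :=
    (Scheme.Modules.pullback g).map ((Scheme.Modules.pushforward f).map
        ((Scheme.Modules.pullbackPushforwardAdjunction g').unit.app M)) ≫
      (Scheme.Modules.pullback g).map ((Scheme.Modules.pushforwardComp g' f ≪≫ Scheme.Modules.pushforwardCongr H.w ≪≫
        (Scheme.Modules.pushforwardComp f' g).symm).hom.app ((Scheme.Modules.pullback g').obj M)) ≫
      adj.counit.app _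
  haveI : IsIso β := this
  let φ : N ⟶ (Scheme.Modules.pushforward g).obj
      ((Scheme.Modules.pushforward f').obj ((Scheme.Modules.pullback g').obj M)) :=
    (Scheme.Modules.pushforward f).map ((Scheme.Modules.pullbackPushforwardAdjunction g').unit.app M) ≫
      (Scheme.Modules.pushforwardComp g' f ≪≫ Scheme.Modules.pushforwardCongr H.w ≪≫
        (Scheme.Modules.pushforwardComp f' g).symm).hom.app ((Scheme.Modules.pullback g').obj M)
  have hφ : adj.unit.app N ≫ (Scheme.Modules.pushforward g).map β = φ := by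
    have h1 : β = (adj.homEquiv _ _).symm φ := by
      refine Eq.trans ?_ (adj.homEquiv_counit _ _ _).symm
      simp only [β, φ, Functor.map_comp, Category.assoc]
    exact (adj.homEquiv_unit _ _ β).symm.trans (((congrArg _ h1)).trans (Equiv.apply_symm_apply _ _))
  have hval : ∀ m : Γ(M, ⊤), β.app ⊤ (eta g N (show Γ(N, ⊤) from m)) =
      (show Γ((Scheme.Modules.pullback g').obj M, ⊤) from eta g' M m) := by
    intro m
    have h2 := congr(($hφ).app ⊤ (show Γ(N, ⊤) from m))
    refine h2.trans ?_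
    change ((Scheme.Modules.pushforwardCongr H.w).hom.app ((Scheme.Modules.pullback g').obj M)).app ⊤
      (eta g' M m) = _
    simp
  have hr : (g.appLE ⊤ ⊤ le_rfl).hom.comp (RingHom.id Γ(S, ⊤)) =
      (RingHom.id Γ(S', ⊤)).comp (g.appLE ⊤ ⊤ le_rfl).hom := rfl
  have hpo : IsPushout (CommRingCat.ofHom (g.appLE ⊤ ⊤ le_rfl).hom) (CommRingCat.ofHom (RingHom.id Γ(S, ⊤)))
      (CommRingCat.ofHom (RingHom.id Γ(S', ⊤))) (g.appLE ⊤ ⊤ le_rfl) := by
    haveI : IsIso (CommRingCat.ofHom (RingHom.id Γ(S, ⊤))) := inferInstanceAs (IsIso (𝟙 Γ(S, ⊤)))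
    haveI : IsIso (CommRingCat.ofHom (RingHom.id Γ(S', ⊤))) := inferInstanceAs (IsIso (𝟙 Γ(S', ⊤)))
    exact IsPushout.of_vert_isIso ⟨rfl⟩
  haveI := FlatBCD.isIso_mu g (le_refl (⊤ : S'.Opens)) hr (isAffineOpen_top S) (isAffineOpen_top S') N hN hpo
  obtain ⟨w, hw⟩ := (ConcreteCategory.bijective_of_isIso (β.app ⊤)).2
    (show Γ((Scheme.Modules.pushforward f').obj ((Scheme.Modules.pullback g').obj M), ⊤) from z)
  obtain ⟨t, ht⟩ := (ConcreteCategory.bijective_of_isIso
    ((FlatBCD.mu g (le_refl (⊤ : S'.Opens)) hr).app N)).2 w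
  subst ht hw
  induction t using TensorProduct.induction_on with
  | zero => exact ⟨0, Fin.elim0, Fin.elim0, by
      rw [Finset.sum_fin_eq_sum_range, Finset.range_zero, Finset.sum_empty]
      exact (congrArg (β.app ⊤) (map_zero _)).trans (map_zero _)⟩
  | tmul b m =>
    refine ⟨1, fun _ => b, fun _ => m, ?_⟩
    rw [Fin.sum_univ_one]
    refine (congrArg (β.app ⊤) (FlatBCD.mu_tmul g _ hr N b m)).trans ?_
    refine ((β.val.app (op ⊤)).hom.map_smul _ _).trans ?_
    refine (pushforward_smul f' _ b _).trans ?_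
    refine congrArg (fun q : Γ((Scheme.Modules.pullback g').obj M, ⊤) =>
      HSMul.hSMul (α := Γ(X', ⊤)) (f'.appTop b) q) ?_
    refine Eq.trans ?_ (hval m)
    exact congrArg (β.app ⊤) (Groth.Agent.QC.res_self _ _ _)
  | add a c ha hc =>
    obtain ⟨k₁, b₁, m₁, h₁⟩ := ha
    obtain ⟨k₂, b₂, m₂, h₂⟩ := hc
    refine ⟨k₁ + k₂, Fin.append b₁ b₂, Fin.append m₁ m₂, ?_⟩
    rw [Fin.sum_univ_add]
    simp only [Fin.append_left, Fin.append_right]
    rw [← h₁, ← h₂]
    exact (congrArg (β.app ⊤) (map_add _ a c)).trans (map_add _ _ _)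

/-- The pulled back section as a morphism. -/
theorem val_pullback (f : X' ⟶ X) {M : X.Modules} (s : Coh.structureModule X ⟶ M) :
    val ((PicLoc.pullbackStructureIso f).inv ≫ (Scheme.Modules.pullback f).map s) ⊤ = eta f M (val s ⊤) := by
  let adj := Scheme.Modules.pullbackPushforwardAdjunction f
  have h : adj.homEquiv (Coh.structureModule X) (Coh.structureModule X')
      (PicLoc.pullbackStructureIso f).hom =
      SheafOfModules.unitToPushforwardObjUnit f.toRingCatSheafHom := Equiv.apply_symm_apply _ _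
  have h1 : adj.unit.app (Coh.structureModule X) =
      adj.homEquiv _ _ (PicLoc.pullbackStructureIso f).hom ≫
        (Scheme.Modules.pushforward f).map (PicLoc.pullbackStructureIso f).inv := by
    rw [adj.homEquiv_unit, Category.assoc]
    refine Eq.symm (Eq.trans ?_ (Category.comp_id _))
    exact congrArg (adj.unit.app _ ≫ ·) (by rw [← Functor.map_comp, Iso.hom_inv_id]; exact CategoryTheory.Functor.map_id _ _)
  have h2 : adj.unit.app (Coh.structureModule X) ≫
      (Scheme.Modules.pushforward f).map ((Scheme.Modules.pullback f).map s) = s ≫ adj.unit.app M :=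
    (adj.unit.naturality s).symm
  rw [h1, h, Category.assoc, ← Functor.map_comp] at h2
  have h3 := congr(($h2).app ⊤ (1 : Γ(X, ⊤)))
  refine Eq.trans ?_ h3
  change _ = ((PicLoc.pullbackStructureIso f).inv ≫ (Scheme.Modules.pullback f).map s).app ⊤
    (f.app ⊤ (1 : Γ(X, ⊤)))
  rw [map_one]
  rfl

/-- Quasi-compactness of the intersections descends along a surjective affine map. -/
theorem quasiSeparatedSpace_of_surjective (h : X' ⟶ X) [Surjective h] [QuasiCompact h]
    [QuasiSeparatedSpace X'] : QuasiSeparatedSpace X := by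
  refine ⟨fun U V hU hUc hV hVc => ?_⟩
  have hU' := QuasiCompact.isCompact_preimage (f := h) U hU hUc
  have hV' := QuasiCompact.isCompact_preimage (f := h) V hV hVc
  have h2 := QuasiSeparatedSpace.inter_isCompact _ _ (h.continuous.isOpen_preimage _ hU) hU'
    (h.continuous.isOpen_preimage _ hV) hV'
  have := h2.image h.continuous
  rwa [← Set.preimage_inter, Set.image_preimage_eq _ h.surjective] at this

/-- A section stays generating after removing a scalar. -/
theorem mem_genLocus_of_comp {N : X.Modules} (hN : PicF.IsInvertible N) (c : Γ(X, ⊤))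
    (w : Coh.structureModule X ⟶ N) {x : X}
    (hx : x ∈ CohB1.genLocus N (homOf (L := Coh.structureModule X) c ≫ w)) : x ∈ CohB1.genLocus N w := by
  obtain ⟨U, e, d, -, hxU, -, he, hd⟩ := TMul.exists_coeff hN w (W := ⊤) (x := x) trivial
  have h1 : val (homOf (L := Coh.structureModule X) c ≫ w) U = (resO X le_top c * d) • e := by
    rw [val_homOf_comp, hd, mul_smul]
  have h2 := (mem_genLocus_iff_isUnit _ he h1 hxU).1 hx
  rw [map_mul] at h2
  exact (mem_genLocus_iff_isUnit _ he hd hxU).2 (isUnit_of_mul_isUnit_right h2)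

/-- A generating locus descends to a quasi-affine open, hence has affine generating neighbourhoods. -/
theorem exists_affine_nhd [IsAffine S] [IsAffine S'] [QuasiCompact f] [Flat g] [Surjective g]
    (H : IsPullback g' f' f g) {L : X.Modules} (h : CohB1.IsAmple ((Scheme.Modules.pullback g').obj L))
    (hL : PicF.IsInvertible L) (n : ℕ) (w : Coh.structureModule X ⟶ CohB1.tensorPow L (n + 1)) {x : X}
    (hx : x ∈ CohB1.genLocus _ w) :
    ∃ (m : ℕ) (t : Coh.structureModule X ⟶ CohB1.tensorPow L (m + 1)),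
      x ∈ CohB1.genLocus _ t ∧ IsAffineOpen (CohB1.genLocus _ t) := by
  haveI : CompactSpace X := QuasiCompact.compactSpace_of_compactSpace f
  haveI : X'.IsSeparated := TMul.isSeparated_of_isAmple h
  haveI : CompactSpace X' := h.2.1
  haveI : IsAffineHom g' := MorphismProperty.of_isPullback H.flip inferInstance
  haveI : Surjective g' := MorphismProperty.of_isPullback H.flip ‹Surjective g›
  haveI : QuasiSeparatedSpace X := quasiSeparatedSpace_of_surjective g'
  have hM := isInvertible_tensorPow hL (n + 1)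
  set U := CohB1.genLocus _ w with hUdef
  haveI : IsAffineHom U.ι := isAffineHom_ι_genLocus hM w
  haveI : CompactSpace U.toScheme := QuasiCompact.compactSpace_of_compactSpace U.ι
  haveI : QuasiSeparatedSpace U.toScheme := quasiSeparatedSpace_of_quasiSeparated U.ι
  -- the inverse image is quasi-affine
  obtain ⟨t, ht⟩ := exists_pullback_section g' hL w
  rw [← hUdef] at ht
  haveI : IsAffineHom (g' ⁻¹ᵁ U).ι := by
    rw [← ht]; exact isAffineHom_ι_genLocus (isInvertible_tensorPow h.1 _) t
  haveI : CompactSpace (g' ⁻¹ᵁ U).toScheme := QuasiCompact.compactSpace_of_compactSpace (g' ⁻¹ᵁ U).ι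
  haveI hqa : Scheme.IsQuasiAffine (g' ⁻¹ᵁ U).toScheme := by
    refine isQuasiAffine_of_isAmple ?_
    have h1 := isAmple_restrict (g' ⁻¹ᵁ U).ι (isAmple_tensorPow h n.succ_pos)
    have hgen : IsGen (val t (g' ⁻¹ᵁ U)) := ht ▸ isGen_genLocus t
    haveI := (isIso_restrict_iff t (g' ⁻¹ᵁ U)).2 hgen
    exact isAmple_congr ((asIso ((Scheme.Modules.restrictFunctor (g' ⁻¹ᵁ U).ι).map t)).symm ≪≫
      Scheme.Modules.restrictUnitIso (g' ⁻¹ᵁ U).ι) h1
  -- descend
  let A := Γ(S, ⊤)
  let B := Γ(S', ⊤)
  letI : Algebra A B := g.appTop.hom.toAlgebra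
  have hflat : g.appTop.hom.Flat := HasRingHomProperty.appTop (P := @Flat) g inferInstance
  haveI : Module.Flat A B := hflat
  have hSpec : Spec.map (CommRingCat.ofHom (algebraMap A B)) = S'.isoSpec.inv ≫ g ≫ S.isoSpec.hom := by
    rw [← Scheme.isoSpec_hom_naturality, Iso.inv_hom_id_assoc]
    rfl
  haveI : Surjective (Spec.map (CommRingCat.ofHom (algebraMap A B))) := by rw [hSpec]; infer_instance
  have H1 : IsPullback (g' ∣_ U) ((g' ⁻¹ᵁ U).ι ≫ f') (U.ι ≫ f) g :=
    (isPullback_morphismRestrict g' U).paste_vert H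
  have H2 : IsPullback ((g' ⁻¹ᵁ U).ι ≫ f' ≫ S'.isoSpec.hom) (g' ∣_ U)
      (Spec.map (CommRingCat.ofHom (algebraMap A B))) (U.ι ≫ f ≫ S.isoSpec.hom) :=
    H1.flip.of_iso (Iso.refl _) S'.isoSpec (Iso.refl _) S.isoSpec (by simp) (by simp)
      (by rw [hSpec]; simp) (by simp)
  haveI : Scheme.IsQuasiAffine (pullback (Spec.map (CommRingCat.ofHom (algebraMap A B)))
      (U.ι ≫ f ≫ S.isoSpec.hom)) :=
    Scheme.IsQuasiAffine.of_isImmersion H2.isoPullback.inv
  haveI : Scheme.IsQuasiAffine U.toScheme :=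
    QA.isQuasiAffine_of_flat_cover (A := A) (B := B) (U.ι ≫ f ≫ S.isoSpec.hom)
  obtain ⟨W, ⟨r, hr, rfl⟩, hxr, -⟩ := Opens.isBasis_iff_nbhd.mp (Scheme.IsQuasiAffine.isBasis_basicOpen U.toScheme)
    (show (⟨x, hx⟩ : U.toScheme) ∈ (⊤ : U.toScheme.Opens) from trivial)
  have him : X.basicOpen (U.topIso.hom r) = U.ι ''ᵁ U.toScheme.basicOpen r := by
    rw [← U.ι_image_basicOpen_topIso_inv, Iso.hom_inv_id_apply]
  obtain ⟨k, t', ht'⟩ := exists_genLocus_eq_basicOpen hM w (U.topIso.hom r)
  obtain ⟨e⟩ := nonempty_powMulIso L (n + 1) (k + 1)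
  obtain ⟨N, hN⟩ : ∃ N, (n + 1) * (k + 1) = N + 1 := ⟨n * k + n + k, by ring⟩
  refine ⟨N, t' ≫ (e ≪≫ eqToIso (congrArg (CohB1.tensorPow L) hN)).hom, ?_⟩
  rw [genLocus_comp, ht', him]
  exact ⟨⟨⟨x, hx⟩, hxr, rfl⟩, hr.image_of_isOpenImmersion U.ι⟩

theorem isAmple_of_pullback [IsAffine S] [IsAffine S'] [QuasiCompact f] [Flat g] [Surjective g]
    (H : IsPullback g' f' f g) {L : X.Modules} (hL : PicF.IsInvertible L)
    (h : CohB1.IsAmple ((Scheme.Modules.pullback g').obj L)) : CohB1.IsAmple L := by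
  haveI : CompactSpace X := QuasiCompact.compactSpace_of_compactSpace f
  haveI : X'.IsSeparated := TMul.isSeparated_of_isAmple h
  haveI : IsAffineHom g' := MorphismProperty.of_isPullback H.flip inferInstance
  haveI : Surjective g' := MorphismProperty.of_isPullback H.flip ‹Surjective g›
  haveI : QuasiSeparatedSpace X := quasiSeparatedSpace_of_surjective g'
  haveI : QuasiSeparated f := inferInstance
  refine ⟨hL, inferInstance, fun x => ?_⟩
  obtain ⟨x', rfl⟩ := g'.surjective x
  obtain ⟨n, s', hx', -⟩ := h.2.2 x'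
  obtain ⟨i⟩ := nonempty_pullPowIso g' L (n + 1)
  have hM := isInvertible_tensorPow hL (n + 1)
  obtain ⟨k, b, m, hz⟩ := exists_combination (f' := f') (g := g) H (isQCoh_of_isInvertible hM)
    (val (s' ≫ i.hom) ⊤)
  let σ : Fin k → (Coh.structureModule X' ⟶ (Scheme.Modules.pullback g').obj (CohB1.tensorPow L (n + 1))) :=
    fun j => homOf (L := Coh.structureModule X') (f'.appTop (b j)) ≫
      (PicLoc.pullbackStructureIso g').inv ≫ (Scheme.Modules.pullback g').map (homOf (m j))
  have hsum : s' ≫ i.hom = ∑ j, σ j := by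
    refine hom_ext_val ?_
    rw [val_sum, hz]
    refine Finset.sum_congr rfl fun j _ => ?_
    rw [val_homOf_comp, val_pullback, val_homOf, Groth.Agent.QC.res_self]
    congr 1
    exact (Groth.Agent.QC.resO_self _ _).symm
  rw [← genLocus_comp s' i.hom, hsum] at hx'
  obtain ⟨j, hj⟩ := Opens.mem_iSup.1 (genLocus_sum_le σ (PicLoc.isInvertible_pullback g' hM) hx')
  have hpre : g' ⁻¹ᵁ CohB1.genLocus _ (homOf (m j)) =
      CohB1.genLocus _ ((PicLoc.pullbackStructureIso g').inv ≫ (Scheme.Modules.pullback g').map (homOf (m j))) :=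
    (genLocus_pullback g' hM (homOf (m j)) (PicLoc.pullbackStructureIso g').symm).symm
  have hx : g'.base x' ∈ CohB1.genLocus _ (homOf (m j)) := by
    show x' ∈ g' ⁻¹ᵁ CohB1.genLocus _ (homOf (m j))
    rw [hpre]
    exact mem_genLocus_of_comp (PicLoc.isInvertible_pullback g' hM) _ _ hj
  exact exists_affine_nhd H h hL n (homOf (m j)) hx

end Groth.Agent.AmpleDesc
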